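import Cfsg.Agent.H692.Rel.Simple_m3
import Cfsg.Agent.H627.PrincipalCount
import Cfsg.Agent.OddOrderCharacters.PF13.SumBound
import Cfsg.Agent.H596.Degree
import Cfsg.Agent.H492.QA5
import Cfsg.Agent.H852.QA.O8Model
import Cfsg.Agent.H973.QA.Rank_m3
import Cfsg.Agent.S2098
import Cfsg.Agent.S0296
import Cfsg.Agent.H606.PQR.Pieces_m3
import Cfsg.Agent.H700.FpfPsu.Deg
import Cfsg.Agent.H844.USeven
import Cfsg.Agent.H236.USeven
import Cfsg.Agent.S0279
import Cfsg.Agent.S2090
import Cfsg.Agent.H251.Small.Main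
import Cfsg.Agent.FastGrp
import Cfsg.Agent.Prune
set_option linter.all false

section
prune_inst 0x7ffebdf9efb8bffeffff7e3fffbddffe3bc4cfffefdff94bffe4ebffbf9f23022fc5fbaf9de090ff1e76e23430b87853fbfffeffe66ffc7ffffdfff45ffbee5ff7ffbd0851979c340ffc6ffffbf07f8e7f3fffffffffffffffffffffffffffbeffffffffffff

-- part: H37/NX/TripNum
section
prune_inst 0x14204100700010000004000400000000100001000020000011000404090f51028040000046000c00104ca8801000000000100090000000000000000000000000002a520402340d00200000003007180c00000000000000000000000000041000000000000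
set_option linter.all false
open scoped Cfsg.Agent.FastGrp

/-!
# The number of characters over a linear character of a central subgroup (helper37, for S4979)

`card_over_le`: if all irreducible characters over `l` have degree prime to `p`, their number is at most
`|C_T(y)|`, for any `p`-element `y` of the quotient `T`.
`no_triple`: `T` of order `21`, `42`, `84` or `168` whose elements of order `3` have centralizers of order at
most `3`: not all characters over `l` have degree prime to `3`.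
-/

set_option autoImplicit false
set_option linter.unusedSectionVars false
set_option linter.style.haveILetI false

namespace Cfsg.Agent.H37.NX

open Cfsg Cfsg.Agent.Characters.Core Cfsg.Agent.Blocks.Basic Cfsg.Agent.H692.Rel Cfsg.Agent.H697.Rel
open scoped ComplexConjugate

section
variable {T C : Type*} [Group T] [Finite T] [Group C] [Finite C] {σ : C →* T}

/-- A `p`-element over a `p`-element. -/
theorem exists_plift (hs : Function.Surjective σ) {r k : ℕ} (hr : r.Prime) {x : T}
    (hx : orderOf x = r ^ k) : ∃ y : C, σ y = x ∧ ∃ j : ℕ, orderOf y = r ^ j := by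
  obtain ⟨g, rfl⟩ := hs x
  obtain ⟨e, m, hm, hem⟩ := Nat.exists_eq_pow_mul_and_not_dvd (orderOf_pos g).ne' r hr.one_lt.ne'
  have hcop : m.Coprime (r ^ e) :=
    (Nat.Coprime.pow_left e ((Nat.Prime.coprime_iff_not_dvd hr).2 hm)).symm
  have hke : r ^ k ∣ r ^ e := by
    have h1 : orderOf (σ g) ∣ orderOf g := orderOf_map_dvd σ g
    rw [hx, hem] at h1
    exact (Nat.Coprime.pow_left k ((Nat.Prime.coprime_iff_not_dvd hr).2 hm)).dvd_of_dvd_mul_right h1
  obtain ⟨c, hc1, hc2⟩ := Nat.chineseRemainder hcop.symm 1 0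
  refine ⟨g ^ c, ?_, ?_⟩
  · rw [map_pow]
    conv_rhs => rw [← pow_one (σ g)]
    rw [pow_eq_pow_iff_modEq, hx]
    exact hc1.of_dvd hke
  · have h1 : (g ^ c) ^ r ^ e = 1 := by
      obtain ⟨d, hd⟩ := (Nat.modEq_zero_iff_dvd.1 hc2)
      rw [hd, ← pow_mul]
      have h2 : m * d * r ^ e = orderOf g * d := by rw [hem]; ring
      rw [h2, pow_mul, pow_orderOf_eq_one, one_pow]
    obtain ⟨j, -, hj⟩ := (Nat.dvd_prime_pow hr).1 (orderOf_dvd_of_pow_eq_one h1)
    exact ⟨j, hj⟩

theorem centralizer_eq_of_zpowers {G : Type*} [Group G] {x y : G}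
    (h : Subgroup.zpowers y = Subgroup.zpowers x) :
    Subgroup.centralizer ({y} : Set G) = Subgroup.centralizer ({x} : Set G) := by
  have key : ∀ a b : G, a ∈ Subgroup.zpowers b →
      Subgroup.centralizer ({b} : Set G) ≤ Subgroup.centralizer ({a} : Set G) := by
    intro a b hab c hc
    obtain ⟨i, rfl⟩ := Subgroup.mem_zpowers_iff.1 hab
    rw [Subgroup.mem_centralizer_singleton_iff] at hc ⊢
    exact (Commute.zpow_right hc i)
  exact le_antisymm
    (key x y (by rw [h]; exact Subgroup.mem_zpowers x)) (key y x (by rw [← h]; exact Subgroup.mem_zpowers y))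

theorem card_over_le [Fintype C] [Fintype (IrrCharacter C)] (hs : Function.Surjective σ)
    (hc : σ.ker ≤ Subgroup.center C) (l : σ.ker →* ℂˣ) {p : ℕ} (hp : p.Prime)
    (hdeg : ∀ χ : C → ℂ, IsIrrCharacter C χ → Ov σ.ker l χ → ¬ p ∣ charDegree χ) {y : T}
    (hy : ∃ k : ℕ, orderOf y = p ^ k) :
    (irrOver σ.ker l).card ≤ Nat.card (Subgroup.centralizer ({y} : Set T)) := by
  classical
  haveI : Fact p.Prime := ⟨hp⟩
  obtain ⟨k, hk⟩ := hy
  obtain ⟨x, hxy, j, hj⟩ := exists_plift hs hp hk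
  set X : Finset C := Finset.univ.filter (fun g => Subgroup.zpowers g = Subgroup.zpowers x) with hX
  have hXmem : ∀ g, g ∈ X ↔ Subgroup.zpowers g = Subgroup.zpowers x := by
    intro g
    rw [hX, Finset.mem_filter]
    exact ⟨fun h => h.2, fun h => ⟨Finset.mem_univ _, h⟩⟩
  have hord : ∀ g ∈ X, orderOf g = p ^ j := by
    intro g hg
    rw [← Nat.card_zpowers, (hXmem g).1 hg, Nat.card_zpowers, hj]
  have hcl : ∀ g ∈ X, ∀ m : ℕ, m.Coprime (Nat.card C) → g ^ m ∈ X := by
    intro g hg m hm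
    rw [hXmem, ← (hXmem g).1 hg]
    have h1 : orderOf (g ^ m) = orderOf g :=
      Nat.Coprime.orderOf_pow ((hm.coprime_dvd_right (orderOf_dvd_natCard g)).symm)
    apply Subgroup.eq_of_le_of_card_ge
    · rw [Subgroup.zpowers_le]
      exact Subgroup.pow_mem _ (Subgroup.mem_zpowers g) m
    · rw [Nat.card_zpowers, Nat.card_zpowers, h1]
  have hpos : 0 < X.card := Finset.card_pos.2 ⟨x, (hXmem x).2 rfl⟩
  have hchar : ∀ χ ∈ irrOver σ.ker l, (X.card : ℝ) ≤ ∑ g ∈ X, ‖(χ : C → ℂ) g‖ ^ 2 := by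
    intro χ hχ
    have hov := mem_over.1 hχ
    have h1 := Cfsg.Agent.OddOrderCharacters.PF13.SumBound.card_le_sum_sq ({()} : Finset Unit)
      (fun _ => (χ : C → ℂ)) (fun _ _ => ⟨(χ : C → ℂ), 0, isIrr_isCharacter χ.2, isCharacter_zero, (sub_zero _).symm⟩)
      X hcl (fun g hg => ⟨(), Finset.mem_singleton_self _,
        Cfsg.Agent.H627.PrincipalCount.apply_ne_zero (isIrr_isCharacter χ.2) (hdeg χ χ.2 hov) g ⟨j, hord g hg⟩⟩)
    simpa only [Finset.sum_singleton] using h1
  have hsum : ∀ g ∈ X, ∑ χ ∈ irrOver σ.ker l, ‖(χ : C → ℂ) g‖ ^ 2 ≤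
      (Nat.card (Subgroup.centralizer ({y} : Set T)) : ℝ) := by
    intro g hg
    have h1 := sum_norm_le hs hc l g
    have h2 : Subgroup.zpowers (σ g) = Subgroup.zpowers y := by
      rw [← hxy, ← MonoidHom.map_zpowers, ← MonoidHom.map_zpowers, (hXmem g).1 hg]
    rwa [centralizer_eq_of_zpowers h2] at h1
  have h1 : ((irrOver σ.ker l).card : ℝ) * X.card ≤
      ∑ χ ∈ irrOver σ.ker l, ∑ g ∈ X, ‖(χ : C → ℂ) g‖ ^ 2 := by
    have := Finset.sum_le_sum hchar
    rwa [Finset.sum_const, nsmul_eq_mul] at this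
  rw [Finset.sum_comm] at h1
  have h2 := Finset.sum_le_sum hsum
  rw [Finset.sum_const, nsmul_eq_mul] at h2
  have h3 := h1.trans h2
  have h4 : (irrOver σ.ker l).card * X.card ≤
      X.card * Nat.card (Subgroup.centralizer ({y} : Set T)) := by exact_mod_cast h3
  rw [mul_comm] at h4
  exact Nat.le_of_mul_le_mul_left h4 hpos

/-- At most three squares of divisors of `t` prime to `3` do not add up to `t`. -/
theorem three_squares {ι : Type*} (s : Finset ι) (f : ι → ℕ) (hs : s.card ≤ 3) {t : ℕ}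
    (ht : 21 ∣ t) (ht' : t ∣ 168) (h1 : ∀ i ∈ s, f i ∣ t) (h3 : ∀ i ∈ s, ¬ 3 ∣ f i)
    (hsum : ∑ i ∈ s, f i ^ 2 = t) : False := by
  classical
  have ht4 : t = 21 ∨ t = 42 ∨ t = 84 ∨ t = 168 := by
    obtain ⟨d, rfl⟩ := ht
    have h4 : d ∣ 8 := Nat.dvd_of_mul_dvd_mul_left (by norm_num : 0 < 21) (by simpa using ht')
    have h5 : d ≤ 8 := Nat.le_of_dvd (by norm_num) h4
    interval_cases d <;> omega
  have hval : ∀ i ∈ s, f i ^ 2 ≤ t := by
    intro i hi
    rw [← hsum]
    exact Finset.single_le_sum (f := fun i => f i ^ 2) (fun _ _ => Nat.zero_le _) hi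
  have hex : ∃ a b c : ℕ, a ^ 2 + b ^ 2 + c ^ 2 = t ∧
      (a = 0 ∨ a ∣ t ∧ ¬ 3 ∣ a ∧ a ^ 2 ≤ t) ∧ (b = 0 ∨ b ∣ t ∧ ¬ 3 ∣ b ∧ b ^ 2 ≤ t) ∧
      (c = 0 ∨ c ∣ t ∧ ¬ 3 ∣ c ∧ c ^ 2 ≤ t) := by
    have h4 : s.card = 0 ∨ s.card = 1 ∨ s.card = 2 ∨ s.card = 3 := by omega
    rcases h4 with h4 | h4 | h4 | h4
    · rw [Finset.card_eq_zero] at h4
      subst h4
      rw [Finset.sum_empty] at hsum
      omega
    · obtain ⟨a, rfl⟩ := Finset.card_eq_one.1 h4
      rw [Finset.sum_singleton] at hsum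
      exact ⟨f a, 0, 0, by rw [← hsum]; ring, Or.inr ⟨h1 a (by simp), h3 a (by simp), hval a (by simp)⟩,
        Or.inl rfl, Or.inl rfl⟩
    · obtain ⟨a, b, hab, rfl⟩ := Finset.card_eq_two.1 h4
      rw [Finset.sum_pair hab] at hsum
      exact ⟨f a, f b, 0, by rw [← hsum]; ring, Or.inr ⟨h1 a (by simp), h3 a (by simp), hval a (by simp)⟩,
        Or.inr ⟨h1 b (by simp), h3 b (by simp), hval b (by simp)⟩, Or.inl rfl⟩
    · obtain ⟨a, b, c, hab, hac, hbc, rfl⟩ := Finset.card_eq_three.1 h4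
      rw [Finset.sum_insert (by simp [hab, hac]), Finset.sum_pair hbc] at hsum
      exact ⟨f a, f b, f c, by rw [← hsum]; ring, Or.inr ⟨h1 a (by simp), h3 a (by simp), hval a (by simp)⟩,
        Or.inr ⟨h1 b (by simp), h3 b (by simp), hval b (by simp)⟩,
        Or.inr ⟨h1 c (by simp), h3 c (by simp), hval c (by simp)⟩⟩
  obtain ⟨a, b, c, habc, ha, hb, hc⟩ := hex
  rcases ht4 with rfl | rfl | rfl | rfl
  · have key : ∀ d : ℕ, (d = 0 ∨ d ∣ 21 ∧ ¬ 3 ∣ d ∧ d ^ 2 ≤ 21) → d ^ 2 = 0 ∨ d ^ 2 = 1 := by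
      rintro d (rfl | ⟨h4, h5, h6⟩)
      · exact Or.inl rfl
      have h7 : d ≤ 4 := by nlinarith
      interval_cases d <;> omega
    have := key a ha; have := key b hb; have := key c hc
    omega
  · have key : ∀ d : ℕ, (d = 0 ∨ d ∣ 42 ∧ ¬ 3 ∣ d ∧ d ^ 2 ≤ 42) → d ^ 2 = 0 ∨ d ^ 2 = 1 ∨ d ^ 2 = 4 := by
      rintro d (rfl | ⟨h4, h5, h6⟩)
      · exact Or.inl rfl
      have h7 : d ≤ 6 := by nlinarith
      interval_cases d <;> omega
    have := key a ha; have := key b hb; have := key c hc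
    omega
  · have key : ∀ d : ℕ, (d = 0 ∨ d ∣ 84 ∧ ¬ 3 ∣ d ∧ d ^ 2 ≤ 84) →
        d ^ 2 = 0 ∨ d ^ 2 = 1 ∨ d ^ 2 = 4 ∨ d ^ 2 = 16 ∨ d ^ 2 = 49 := by
      rintro d (rfl | ⟨h4, h5, h6⟩)
      · exact Or.inl rfl
      have h7 : d ≤ 9 := by nlinarith
      interval_cases d <;> omega
    have := key a ha; have := key b hb; have := key c hc
    omega
  · have key : ∀ d : ℕ, (d = 0 ∨ d ∣ 168 ∧ ¬ 3 ∣ d ∧ d ^ 2 ≤ 168) →
        d ^ 2 = 0 ∨ d ^ 2 = 1 ∨ d ^ 2 = 4 ∨ d ^ 2 = 16 ∨ d ^ 2 = 49 ∨ d ^ 2 = 64 := by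
      rintro d (rfl | ⟨h4, h5, h6⟩)
      · exact Or.inl rfl
      have h7 : d ≤ 12 := by nlinarith
      interval_cases d <;> omega
    have := key a ha; have := key b hb; have := key c hc
    omega

theorem no_triple (hs : Function.Surjective σ) {Z : Subgroup C} (hZ : σ.ker = Z)
    (hc : Z ≤ Subgroup.center C) (l : Z →* ℂˣ)
    (hdeg : ∀ χ : C → ℂ, IsIrrCharacter C χ → Ov Z l χ → ¬ 3 ∣ charDegree χ)
    (ht : 21 ∣ Nat.card T) (ht' : Nat.card T ∣ 168)
    (hcen : ∀ y : T, orderOf y = 3 → Nat.card (Subgroup.centralizer ({y} : Set T)) ≤ 3) : False := by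
  classical
  subst hZ
  letI := Fintype.ofFinite C
  haveI := finite_irr (G := C)
  letI := Fintype.ofFinite (IrrCharacter C)
  haveI : Fact (Nat.Prime 3) := ⟨by norm_num⟩
  obtain ⟨y, hy⟩ := exists_prime_orderOf_dvd_card' (G := T) 3 ((by norm_num : 3 ∣ 21).trans ht)
  have h1 := card_over_le hs hc l (by norm_num : Nat.Prime 3) hdeg ⟨1, by rw [hy, pow_one]⟩
  have h2 := sum_degree hs hc l
  refine three_squares (irrOver σ.ker l) (fun χ => charDegree (χ : C → ℂ)) (h1.trans (hcen y hy)) ht ht' ?_ ?_ h2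
  · intro χ _
    have h3 := Cfsg.Agent.H596.charDegree_dvd_index χ.2 σ.ker
      (fun a ha b _ => (Subgroup.mem_center_iff.1 (hc ha) b).symm)
    have h4 : σ.ker.index = Nat.card T := by
      rw [Subgroup.index_ker, MonoidHom.range_eq_top.2 hs, Subgroup.card_top]
    rwa [h4] at h3
  · intro χ hχ
    exact hdeg χ χ.2 (mem_over.1 hχ)

end

end Cfsg.Agent.H37.NX
end

-- part: H852/QA/RowO8
section
prune_inst 0x14206104000000000000000002001c4283000000002b0001910000040587dd0300000620f4800a0881008024003a804000000119001800002000800041180080040272c60200a10020000000f806000000000000000000000000000000041000000000000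
set_option linter.all false
open scoped Cfsg.Agent.FastGrp

-- part: H852/QA/KCls
section
/-!
# S4979, layer (A): the `K`-bound with classes of order prime to the multiplier (helper852)

`Sit.card_classes_le`: in a situation over `S` the number of classes of `S` of elements of order prime to `|ker π|` is at most
`|C_S(x)|`, for every `x` of order `p`.
-/

set_option autoImplicit false

open Cfsg

namespace Cfsg.Agent.H852.QA

open Cfsg.Agent.H80.Fpf Cfsg.Agent.H152.QA
open scoped commutatorElement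

theorem eq_one_of_coprime {G : Type*} [Group G] {w : G} {a b : ℕ} (ha : w ^ a = 1) (hb : w ^ b = 1) (h : a.Coprime b) :
    w = 1 := by
  have h1 := Nat.dvd_gcd (orderOf_dvd_of_pow_eq_one ha) (orderOf_dvd_of_pow_eq_one hb)
  rw [h.gcd_eq_one, Nat.dvd_one] at h1
  exact orderOf_eq_one_iff.1 h1

/-- elements of order prime to the kernel lift -/
theorem exists_lift_coprime {L S : Type*} [Group L] [Finite L] [Group S] {π : L →* S} (hπ : Function.Surjective π)
    (s : S) (hs : (orderOf s).Coprime (Nat.card π.ker)) : ∃ g : L, π g = s ∧ orderOf g = orderOf s := by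
  obtain ⟨g, rfl⟩ := hπ s
  have : Finite S := Finite.of_surjective π hπ
  obtain ⟨c, hc1, hc2⟩ := Nat.chineseRemainder hs 1 0
  have h1 : π (g ^ c) = π g := by
    rw [map_pow]
    have h2 : π g ^ c = π g ^ 1 := by
      rw [pow_eq_pow_iff_modEq]
      exact hc1
    rw [h2, pow_one]
  refine ⟨g ^ c, h1, Nat.dvd_antisymm ?_ ?_⟩
  · refine orderOf_dvd_of_pow_eq_one ?_
    rw [← pow_mul, mul_comm, pow_mul]
    obtain ⟨d, hd⟩ := (Nat.modEq_zero_iff_dvd).1 hc2
    have h2 : g ^ orderOf (π g) ∈ π.ker := by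
      rw [MonoidHom.mem_ker, map_pow, pow_orderOf_eq_one]
    rw [hd, pow_mul]
    have h3 : (⟨_, h2⟩ : π.ker) ^ Nat.card π.ker = 1 := pow_card_eq_one'
    have h4 := congrArg Subtype.val h3
    rw [SubmonoidClass.coe_pow] at h4
    rw [show (g ^ orderOf (π g)) ^ Nat.card π.ker = 1 from h4, one_pow]
  · conv_lhs => rw [← h1]
    exact orderOf_map_dvd π _

variable {p q : ℕ} {L V S : Type} [Group L] [Finite L] [AddCommGroup V] [Finite V] [DistribMulAction L V]
  [Group S] [Finite S] [IsSimpleGroup S] {π : L →* S} {N : Subgroup L} {φ : N →* ℂˣ}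

/-- **the class number bound** -/
theorem Sit.card_classes_le (h : Sit (V := V) p q N φ) (hπ : IsCover π) {m : ℕ} (s : Fin m → S)
    (hcop : ∀ i, (orderOf (s i)).Coprime (Nat.card π.ker)) (hs : ∀ i j, IsConj (s i) (s j) → i = j)
    (x : S) (hx : orderOf x = p) : m ≤ Nat.card (Subgroup.centralizer ({x} : Set S)) := by
  have hker : π.ker = Subgroup.center L := H492.QA5.IsCover.ker_eq hπ
  have hpk : p.Coprime (Nat.card π.ker) := by
    rw [hker]
    exact (Nat.Prime.coprime_iff_not_dvd h.hp).2 h.pZ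
  obtain ⟨x', hx', hox⟩ := exists_lift_coprime hπ.surj x (by rw [hx]; exact hpk)
  have hlift : ∀ i, ∃ g : L, π g = s i ∧ orderOf g = orderOf (s i) := fun i =>
    exists_lift_coprime hπ.surj (s i) (hcop i)
  choose g hg hog using hlift
  have hcg : ∀ i, (orderOf (g i)).Coprime (Nat.card (Subgroup.center L)) := fun i => by
    rw [hog, ← hker]
    exact hcop i
  have hz1 : ∀ z ∈ Subgroup.center L, z ^ Nat.card (Subgroup.center L) = 1 := fun z hz => by
    have h3 : (⟨z, hz⟩ : Subgroup.center L) ^ Nat.card (Subgroup.center L) = 1 := pow_card_eq_one'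
    exact congrArg Subtype.val h3
  set Q := Subgroup.center L ⧸ N.subgroupOf (Subgroup.center L) with hQ
  let r : Q → L := fun c => ((Quotient.out c : Subgroup.center L) : L)
  have hr : ∀ c, r c ∈ Subgroup.center L := fun c => (Quotient.out c : Subgroup.center L).2
  let G : Fin m × Q → L := fun a => g a.1 * r a.2
  have hK : m * Nat.card Q ≤ Nat.card {χ : IrrCharacter L // ∀ n : N, (χ : L → ℂ) n = (χ : L → ℂ) 1 * φ n} := by
    have e : Fin (m * Nat.card Q) ≃ Fin m × Q :=
      (finCongr (by rw [Nat.card_prod, Nat.card_fin])).trans (Finite.equivFin (Fin m × Q)).symm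
    refine H492.QA5.good_card h.cen φ h.inj (fun k => G (e k)) ?_ ?_
    · intro k y hy
      generalize e k = a at hy ⊢
      obtain ⟨i, c⟩ := a
      change ⁅g i * r c, y⁆ ∈ N at hy
      change ⁅g i * r c, y⁆ = 1
      have hzc := Subgroup.mem_center_iff.1 (hr c)
      have h1 : ⁅g i * r c, y⁆ = ⁅g i, y⁆ := by
        rw [commutatorElement_def, commutatorElement_def, mul_inv_rev]
        calc g i * r c * y * ((r c)⁻¹ * (g i)⁻¹) * y⁻¹ = g i * (r c * y) * (r c)⁻¹ * (g i)⁻¹ * y⁻¹ := by group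
          _ = g i * (y * r c) * (r c)⁻¹ * (g i)⁻¹ * y⁻¹ := by rw [← hzc y]
          _ = g i * y * (g i)⁻¹ * y⁻¹ := by group
      rw [h1] at hy ⊢
      set n := ⁅g i, y⁆ with hn
      have hnz := h.cen hy
      have hnc := Subgroup.mem_center_iff.1 hnz
      have h2 : y * g i * y⁻¹ = n⁻¹ * g i := by
        rw [hn, commutatorElement_def]
        group
      have h3 : (y * g i * y⁻¹) ^ orderOf (g i) = 1 := by
        rw [conj_pow, pow_orderOf_eq_one, mul_one, mul_inv_cancel]
      have h4 : Commute n⁻¹ (g i) := (Commute.inv_left (hnc (g i)).symm)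
      rw [h2, h4.mul_pow, pow_orderOf_eq_one, mul_one, inv_pow, inv_eq_one] at h3
      exact eq_one_of_coprime h3 (hz1 n hnz) (hcg i)
    · intro k l hkl
      apply e.injective
      obtain ⟨y, n, hn, hy⟩ := hkl
      change y * G (e k) * y⁻¹ = G (e l) * n at hy
      generalize e k = a at hy ⊢
      generalize e l = b at hy ⊢
      obtain ⟨i, c⟩ := a
      obtain ⟨j, d⟩ := b
      change y * (g i * r c) * y⁻¹ = g j * r d * n at hy
      have hzc := Subgroup.mem_center_iff.1 (hr c)
      set w := r d * n * (r c)⁻¹ with hw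
      have hwz : w ∈ Subgroup.center L :=
        Subgroup.mul_mem _ (Subgroup.mul_mem _ (hr d) (h.cen hn)) (Subgroup.inv_mem _ (hr c))
      have hwc := Subgroup.mem_center_iff.1 hwz
      have h1 : y * g i * y⁻¹ = g j * w := by
        rw [hw]
        calc y * g i * y⁻¹ = y * (g i * r c) * y⁻¹ * (y * (r c)⁻¹ * y⁻¹) := by group
          _ = g j * r d * n * (y * (r c)⁻¹ * y⁻¹) := by rw [hy]
          _ = g j * r d * n * (r c)⁻¹ := by
            have h5 := Subgroup.mem_center_iff.1 (Subgroup.inv_mem _ (hr c)) y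
            rw [h5, mul_inv_cancel_right]
          _ = g j * (r d * n * (r c)⁻¹) := by group
      have h2 : w ^ (orderOf (g i) * orderOf (g j)) = 1 := by
        have h3 : (y * g i * y⁻¹) ^ (orderOf (g i) * orderOf (g j)) = 1 := by
          rw [conj_pow, pow_mul, pow_orderOf_eq_one, one_pow, mul_one, mul_inv_cancel]
        have h4 : Commute (g j) w := hwc (g j)
        rw [h1, h4.mul_pow, mul_comm (orderOf (g i)), pow_mul, pow_orderOf_eq_one, one_pow, one_mul, mul_comm] at h3
        exact h3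
      have h3 : w = 1 := eq_one_of_coprime h2 (hz1 w hwz) (Nat.Coprime.mul_left (hcg i) (hcg j))
      rw [h3, mul_one] at h1
      have h4 : i = j := by
        refine hs i j (isConj_iff.2 ⟨π y, ?_⟩)
        rw [← hg i, ← hg j, ← h1, map_mul, map_mul, map_inv]
      refine Prod.ext h4 ?_
      show c = d
      have h5 : (QuotientGroup.mk (Quotient.out d : Subgroup.center L) : Q) =
          QuotientGroup.mk (Quotient.out c : Subgroup.center L) := by
        rw [QuotientGroup.eq, Subgroup.mem_subgroupOf]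
        have h6 : r c = r d * n := by
          rw [hw] at h3
          exact (mul_inv_eq_one.1 h3).symm
        show ((Quotient.out d : Subgroup.center L)⁻¹ * (Quotient.out c : Subgroup.center L) : Subgroup.center L).1 ∈ N
        have h7 : ((Quotient.out d : Subgroup.center L)⁻¹ * (Quotient.out c : Subgroup.center L) :
            Subgroup.center L).1 = (r d)⁻¹ * r c := rfl
        rw [h7, h6, inv_mul_cancel_left]
        exact hn
      have h8 : ∀ c : Q, (QuotientGroup.mk (Quotient.out c : Subgroup.center L) : Q) = c := fun c => Quotient.out_eq c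
      rw [h8, h8] at h5
      exact h5.symm
  have h1 := H492.QA5.Sit.kbound h x' ⟨1, by rw [hox, hx, pow_one]⟩
  have h2 := H492.QA5.Sit.card_centralizer h hπ x' ⟨1, by rw [hox, hx, pow_one]⟩
  rw [hx'] at h2
  have h3 : Nat.card (Subgroup.center L) = Nat.card Q * Nat.card N := by
    rw [Subgroup.card_eq_card_quotient_mul_card_subgroup (N.subgroupOf (Subgroup.center L)),
      Nat.card_congr (Subgroup.subgroupOfEquivOfLe h.cen).toEquiv]
  have h4 : 0 < Nat.card (Subgroup.center L) := Nat.card_pos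
  have h5 : m * Nat.card (Subgroup.center L) ≤
      Nat.card (Subgroup.centralizer ({x} : Set S)) * Nat.card (Subgroup.center L) := by
    calc m * Nat.card (Subgroup.center L) = m * Nat.card Q * Nat.card N := by rw [h3, mul_assoc]
      _ ≤ _ * Nat.card N := Nat.mul_le_mul_right _ hK
      _ ≤ Nat.card (Subgroup.centralizer ({x'} : Set L)) := h1
      _ = _ := by rw [h2, mul_comm]
  exact Nat.le_of_mul_le_mul_right h5 h4

end Cfsg.Agent.H852.QA
end

-- part: H852/QA/RowO8
section
/-!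
# S4979, layer (A): the row `Ω₈⁺(2)` (helper852)
-/

set_option autoImplicit false

open Cfsg

namespace Cfsg.Agent.H852.QA

open Cfsg.Agent.H80.Fpf Cfsg.Agent.H152.QA Cfsg.Agent.StdO8.Model Cfsg.Agent.StdO8.Code
open scoped commutatorElement

theorem fct_om : H320.O8.Fct Om := by
  obtain ⟨e⟩ := exists_equiv (F := ZMod 2) (by rw [ZMod.card])
  exact (H320.O8.fct_T (F := ZMod 2) (by rw [ZMod.card])).congr e.symm

theorem simple_om : IsSimpleGroup Om := by
  obtain ⟨e⟩ := exists_equiv (F := ZMod 2) (by rw [ZMod.card])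
  have hs : IsSimpleGroup (POmega (ZMod 2) (quadFormPlus 4 (ZMod 2))) := Cfsg.Agent.S0296.result 4 le_rfl
  have : Nontrivial Om := e.injective.nontrivial
  exact IsSimpleGroup.isSimpleGroup_of_surjective e.toMonoidHom e.surjective

theorem mult_om {L : Type} [Group L] [Finite L] {π : L →* Om} (hπ : IsCover π) : Nat.card π.ker ∣ 4 := by
  obtain ⟨e⟩ := exists_equiv (F := ZMod 2) (by rw [ZMod.card])
  have h1 : MultDvd (POmega (ZMod 2) (quadFormPlus 4 (ZMod 2))) 4 := by
    have h2 := multDvd_of (Cfsg.Agent.S2098.result (F := ZMod 2) (by rw [ZMod.card]))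
    have h3 : Nat.card (Multiplicative (ZMod 2 × ZMod 2)) = 4 := by
      rw [Nat.card_eq_fintype_card]
      rfl
    rwa [h3] at h2
  have h2 := h1 L (e.symm.toMonoidHom.comp π) (hπ.equiv_comp e.symm)
  have h3 : (e.symm.toMonoidHom.comp π).ker = π.ker := by
    ext g
    rw [MonoidHom.mem_ker, MonoidHom.mem_ker]
    exact map_eq_one_iff e.symm e.symm.injective
  rwa [h3] at h2

/-- conjugacy with all powers, from one relation -/
theorem isConj_pow_of {G : Type*} [Group G] {t y : G} {p s : ℕ} (hp : y ^ p = 1) (h : t * y * t⁻¹ = y ^ s) {k : ℕ}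
    {j : ℕ} (hj : s ^ j % p = k % p) : IsConj y (y ^ k) := by
  have h1 := O8.isConj_pow h j
  have h2 : y ^ s ^ j = y ^ k := by
    rw [pow_eq_pow_iff_modEq]
    exact Nat.ModEq.of_dvd (orderOf_dvd_of_pow_eq_one hp) hj
  rwa [h2] at h1

theorem noSit_om : NoSit Om := by
  have hf := fct_om
  have hfin : Finite Om := Nat.finite_of_card_ne_zero (by rw [hf.card]; norm_num)
  have hs := simple_om
  intro p q L V _ _ _ _ _ π N φ hπ h
  have hk := mult_om hπ
  have hL : Nat.card L = Nat.card π.ker * 174182400 := by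
    rw [← hf.card, ← Subgroup.card_mul_index π.ker, Subgroup.index_ker, MonoidHom.range_eq_top.2 hπ.surj,
      Subgroup.card_top]
  have hq : 11 ≤ q := by
    by_contra hlt
    have h1 : ¬ q ∣ 174182400 := fun h1 => h.qL (by rw [hL]; exact h1.mul_left _)
    have h2 := h.hq.two_le
    have h3 : q < 11 := by omega
    interval_cases q <;> exact h1 (by norm_num)
  have hpc : p = 3 ∨ p = 5 ∨ p = 7 := by
    have h1 : p ∣ 4 * 174182400 := by
      have h2 := h.pL
      rw [hL] at h2
      exact h2.trans (Nat.mul_dvd_mul_right hk _)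
    have h2 : 4 * 174182400 = 2 ^ 14 * 3 ^ 5 * 5 ^ 2 * 7 := by norm_num
    rw [h2] at h1
    have hp := h.hp
    rcases hp.dvd_mul.1 h1 with h1 | h1
    · rcases hp.dvd_mul.1 h1 with h1 | h1
      · rcases hp.dvd_mul.1 h1 with h1 | h1
        · exact absurd ((Nat.prime_dvd_prime_iff_eq hp Nat.prime_two).1 (hp.dvd_of_dvd_pow h1)) h.odd
        · exact Or.inl ((Nat.prime_dvd_prime_iff_eq hp Nat.prime_three).1 (hp.dvd_of_dvd_pow h1))
      · exact Or.inr (Or.inl ((Nat.prime_dvd_prime_iff_eq hp Nat.prime_five).1 (hp.dvd_of_dvd_pow h1)))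
    · exact Or.inr (Or.inr ((Nat.prime_dvd_prime_iff_eq hp (by norm_num)).1 h1))
  have hbig : ∀ X : Subgroup Om, ¬ q ^ 8 ≤ (Subgroup.normalizer (X : Set Om)).index := by
    intro X h1
    have h2 : (Subgroup.normalizer (X : Set Om)).index ≤ Nat.card Om :=
      Nat.le_of_dvd Nat.card_pos (Subgroup.index_dvd_card _)
    have h3 : 11 ^ 8 ≤ q ^ 8 := Nat.pow_le_pow_left hq 8
    rw [hf.card] at h2
    omega
  obtain ⟨G, _, _, _, ψ, hψ, -, -, hP⟩ := h.exists_pSit' hπ
  rcases hpc with rfl | rfl | rfl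
  · obtain ⟨X, hX, hXc, hX3, hXt⟩ := O8.exists_three
    refine hbig X (H973.QA.PSit.rank hP hψ (r := 4) (e := 2) X hXc hX3 hX (by norm_num) fun x hx k hk' => ?_)
    have h1 : k % 3 = 1 ∨ k % 3 = 2 := by
      have h2 : (k % 3) ^ 2 % 3 = 1 := by rwa [← Nat.pow_mod]
      have h3 : k % 3 < 3 := Nat.mod_lt _ (by norm_num)
      interval_cases k % 3 <;> omega
    rcases h1 with h1 | h1
    · exact isConj_pow_of (hX3 x hx) (hXt x hx) (j := 0) (by rw [h1]; rfl)
    · exact isConj_pow_of (hX3 x hx) (hXt x hx) (j := 1) (by rw [h1]; rfl)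
  · obtain ⟨X, hX, hXc, hX3, hXt⟩ := O8.exists_five
    refine hbig X (H973.QA.PSit.rank hP hψ (r := 2) (e := 4) X hXc hX3 hX (by norm_num) fun x hx k hk' => ?_)
    have h1 : k % 5 = 1 ∨ k % 5 = 2 ∨ k % 5 = 4 ∨ k % 5 = 3 := by
      have h2 : (k % 5) ^ 4 % 5 = 1 := by rwa [← Nat.pow_mod]
      have h3 : k % 5 < 5 := Nat.mod_lt _ (by norm_num)
      interval_cases k % 5 <;> omega
    rcases h1 with h1 | h1 | h1 | h1
    · exact isConj_pow_of (hX3 x hx) (hXt x hx) (j := 0) (by rw [h1]; rfl)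
    · exact isConj_pow_of (hX3 x hx) (hXt x hx) (j := 1) (by rw [h1]; rfl)
    · exact isConj_pow_of (hX3 x hx) (hXt x hx) (j := 2) (by rw [h1]; rfl)
    · exact isConj_pow_of (hX3 x hx) (hXt x hx) (j := 3) (by rw [h1]; rfl)
  · have h7 : orderOf (word (O8.cl 7)) = 7 := O8.orderOf_cl 7
    have h1 := Sit.card_classes_le h hπ (fun i => word (O8.cl i)) (fun i => ?_) (fun i j hij => O8.cl_inj hij)
      (word (O8.cl 7)) h7
    · rw [hf.c7 _ h7] at h1
      omega
    · refine Nat.Coprime.coprime_dvd_right hk ?_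
      rw [O8.orderOf_cl]
      revert i
      decide

/-- **the row** -/
theorem row_o82 {F : Type} [Field F] [Fintype F] (hF : Fintype.card F = 2) : NoSit (POmega F (quadFormPlus 4 F)) := by
  obtain ⟨e⟩ := exists_equiv hF
  exact NoSit.of_equiv e noSit_om

end Cfsg.Agent.H852.QA
end
end

-- part: H309/U43/Five
section
prune_inst 0x2004400010000000000000001c4283000102000800008000000004888c000000002080a004180008080400300040000000800000000000000000011800800008000200000000000000000000000000000000000000000000000000000000000000000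
set_option linter.all false
open scoped Cfsg.Agent.FastGrp

-- part: H309/U43/Common
section
/-!
# S4979, row `U₄(3)`: common covers, good elements, the K-bound with good classes

* `exists_common` : two covers of `S` have a common cover;
* `no_sit_of_good` : a list of `k` pairwise non-conjugate elements of `S` with "very good" lifts, and an element `x` of order
  `p` with `|C_S(x)| < k` contradict `Sit`.
-/

set_option autoImplicit false
set_option linter.style.haveILetI false

namespace Cfsg.Agent.H309.U43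

open Subgroup Cfsg Cfsg.Agent.H80.Fpf Cfsg.Agent.H152.QA Cfsg.Agent.H492.QA5

open scoped commutatorElement

/-- **Two covers have a common cover.** -/
theorem exists_common {S : Type} [Group S] {U : Type} [Group U] [Finite U] {υ : U →* S} (hυ : IsCover υ)
    {G : Type} [Group G] [Finite G] {π : G →* S} (hπ : IsCover π) :
    ∃ (E : Type) (_ : Group E) (_ : Finite E) (e : E →* S) (q₁ : E →* U) (q₂ : E →* G), IsCover e ∧
      Function.Surjective q₁ ∧ Function.Surjective q₂ ∧ (∀ x, υ (q₁ x) = e x) ∧ ∀ x, π (q₂ x) = e x := by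
  let P : Subgroup (U × G) := (υ.comp (MonoidHom.fst U G)).eqLocus (π.comp (MonoidHom.snd U G))
  have hP : ∀ p : P, υ (p : U × G).1 = π (p : U × G).2 := fun p => p.2
  let f : P →* S := (υ.comp (MonoidHom.fst U G)).comp P.subtype
  have hfs : Function.Surjective f := by
    intro s
    obtain ⟨u, hu⟩ := hυ.surj s
    obtain ⟨g, hg⟩ := hπ.surj s
    exact ⟨⟨(u, g), hu.trans hg.symm⟩, hu⟩
  have hfc : f.ker ≤ Subgroup.center P := by
    intro z hz
    have h1 : υ (z : U × G).1 = 1 := hz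
    have h2 : π (z : U × G).2 = 1 := by rw [← hP]; exact h1
    have h3 := hυ.central ((MonoidHom.mem_ker).2 h1)
    have h4 := hπ.central ((MonoidHom.mem_ker).2 h2)
    rw [Subgroup.mem_center_iff]
    intro p
    apply Subtype.ext
    exact Prod.ext (Subgroup.mem_center_iff.1 h3 _) (Subgroup.mem_center_iff.1 h4 _)
  have hSp : commutator S = ⊤ := by
    rw [← map_commutator_of_surj hυ.surj, hυ.perf, ← MonoidHom.range_eq_map]
    exact MonoidHom.range_eq_top.2 hυ.surj
  obtain ⟨h1, h2⟩ := perf_commutator hfs hfc hSp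
  let E := commutator P
  let e : E →* S := f.comp E.subtype
  have hE : IsCover e := by
    refine ⟨?_, ?_, h1⟩
    · intro k
      have h3 : k ∈ (commutator P).map f := by rw [h2]; trivial
      obtain ⟨m, hm, rfl⟩ := h3
      exact ⟨⟨m, hm⟩, rfl⟩
    · intro z hz
      rw [Subgroup.mem_center_iff]
      intro y
      apply Subtype.ext
      exact Subgroup.mem_center_iff.1 (hfc (show (z : P) ∈ f.ker from hz)) y
  let p₁ : P →* U := (MonoidHom.fst U G).comp P.subtype
  let p₂ : P →* G := (MonoidHom.snd U G).comp P.subtype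
  have hp₁ : Function.Surjective p₁ := by
    intro u
    obtain ⟨g, hg⟩ := hπ.surj (υ u)
    exact ⟨⟨(u, g), hg.symm⟩, rfl⟩
  have hp₂ : Function.Surjective p₂ := by
    intro g
    obtain ⟨u, hu⟩ := hυ.surj (π g)
    exact ⟨⟨(u, g), hu⟩, rfl⟩
  refine ⟨E, inferInstance, inferInstance, e, p₁.comp E.subtype, p₂.comp E.subtype, hE, ?_, ?_, fun _ => rfl,
    fun x => (hP x).symm⟩
  · intro u
    have h3 : u ∈ (commutator P).map p₁ := by rw [map_commutator_of_surj hp₁, hυ.perf]; trivial
    obtain ⟨m, hm, rfl⟩ := h3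
    exact ⟨⟨m, hm⟩, rfl⟩
  · intro u
    have h3 : u ∈ (commutator P).map p₂ := by rw [map_commutator_of_surj hp₂, hπ.perf]; trivial
    obtain ⟨m, hm, rfl⟩ := h3
    exact ⟨⟨m, hm⟩, rfl⟩

theorem card_of_surj {G S : Type*} [Group G] [Group S] (f : G →* S) (hf : Function.Surjective f) :
    Nat.card G = Nat.card f.ker * Nat.card S := by
  rw [← f.ker.card_mul_index, index_ker, MonoidHom.range_eq_top.2 hf, card_top]

/-- the orders of the kernels in a common cover -/
theorem card_ker_comp {S : Type} [Group S] [Finite S] {U : Type} [Group U] [Finite U] {υ : U →* S} (hυ : IsCover υ)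
    {E : Type} [Group E] [Finite E] {e : E →* S} (he : IsCover e) (q₁ : E →* U) (hq : Function.Surjective q₁) :
    Nat.card e.ker = Nat.card q₁.ker * Nat.card υ.ker := by
  have h1 := card_of_surj e he.surj
  have h2 := card_of_surj υ hυ.surj
  have h3 := card_of_surj q₁ hq
  rw [h3, h2, ← mul_assoc] at h1
  exact (Nat.eq_of_mul_eq_mul_right Nat.card_pos h1).symm

section
variable {p q : ℕ} {L V S : Type} [Group L] [Finite L] [AddCommGroup V] [Finite V] [DistribMulAction L V]
  [Group S] [Finite S] [IsSimpleGroup S] {π : L →* S} {N : Subgroup L} {φ : N →* ℂˣ}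

/-- **K-bound with good classes.** `h i` very good elements of `L` with pairwise non-conjugate images, `x` of order `p`. -/
theorem no_sit_of_good (hS : Sit (V := V) p q N φ) (hπ : IsCover π) {k : ℕ} (h : Fin k → L)
    (hvg : ∀ i, ∀ y : L, ⁅h i, y⁆ ∈ π.ker → ⁅h i, y⁆ = 1) (hnc : ∀ i j, IsConj (π (h i)) (π (h j)) → i = j)
    (x : L) (hx : ∃ m, orderOf x = p ^ m) (hc : Nat.card (centralizer ({π x} : Set S)) < k) : False := by
  classical
  have hZ : center L = π.ker := (IsCover.ker_eq hπ).symm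
  have hNZ : N ≤ center L := hS.cen
  let N' : Subgroup (center L) := N.subgroupOf (center L)
  have hN'c : Nat.card N' = Nat.card N := Nat.card_congr (subgroupOfEquivOfLe hNZ).toEquiv
  let J := Fin k × (center L ⧸ N')
  haveI : Finite J := inferInstance
  let m := Nat.card J
  let e : Fin m ≃ J := (Finite.equivFin J).symm
  let g : Fin m → L := fun i => h (e i).1 * ((e i).2.out : center L)
  have hcen : ∀ (c : center L) (y : L), (c : L) * y = y * c := fun c y => (mem_center_iff.1 c.2 y).symm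
  have hcomm : ∀ (a y : L) (c : center L), ⁅a * (c : L), y⁆ = ⁅a, y⁆ := by
    intro a y c
    rw [commutatorElement_def, commutatorElement_def, mul_inv_rev]
    calc a * c * y * ((c : L)⁻¹ * a⁻¹) * y⁻¹ = a * (c * y) * ((c : L)⁻¹ * a⁻¹) * y⁻¹ := by group
      _ = a * (y * c) * ((c : L)⁻¹ * a⁻¹) * y⁻¹ := by rw [hcen]
      _ = a * y * a⁻¹ * y⁻¹ := by group
  have h1 := good_card hNZ φ hS.inj g (fun i y hy => by
      rw [hcomm] at hy ⊢
      exact hvg _ y (hZ ▸ hNZ hy)) (fun i j => by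
      rintro ⟨y, n, hn, hyn⟩
      have hnZ : n ∈ center L := hNZ hn
      -- the images
      have hπc : ∀ c : center L, π c = 1 := fun c => by
        have : (c : L) ∈ π.ker := hZ ▸ c.2
        exact this
      have hπn : π n = 1 := hπc ⟨n, hnZ⟩
      have e1 : (e i).1 = (e j).1 := by
        apply hnc
        rw [isConj_iff]
        refine ⟨π y, ?_⟩
        have h2 := congrArg π hyn
        simp only [g, map_mul, map_inv, hπc, hπn, mul_one] at h2
        exact h2
      have h3 : y * h (e i).1 * y⁻¹ * ((e i).2.out : center L) = h (e i).1 * (((e j).2.out : center L) * n) := by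
        have h4 : y * g i * y⁻¹ = y * h (e i).1 * y⁻¹ * ((e i).2.out : center L) := by
          simp only [g]
          calc y * (h (e i).1 * ((e i).2.out : center L)) * y⁻¹ = y * h (e i).1 * (((e i).2.out : center L) * y⁻¹) := by group
            _ = y * h (e i).1 * (y⁻¹ * ((e i).2.out : center L)) := by rw [hcen]
            _ = _ := by group
        rw [← h4, hyn]
        simp only [g]
        rw [e1, mul_assoc]
      have h5 : ⁅h (e i).1, y⁆ ∈ π.ker := by
        have h6 : π (h (e i).1) = π y * π (h (e i).1) * (π y)⁻¹ := by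
          have h7 := congrArg π h3
          simp only [map_mul, map_inv, hπc, hπn, mul_one] at h7
          exact h7.symm
        rw [MonoidHom.mem_ker, commutatorElement_def, map_mul, map_mul, map_mul, map_inv, map_inv]
        have h8 : π (h (e i).1) * π y = π y * π (h (e i).1) := by
          calc π (h (e i).1) * π y = (π y * π (h (e i).1) * (π y)⁻¹) * π y := by rw [← h6]
            _ = π y * π (h (e i).1) := by group
        rw [h8]; group
      have h6 := hvg _ _ h5
      rw [commutatorElement_eq_one_iff_mul_comm] at h6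
      have h7 : y * h (e i).1 * y⁻¹ = h (e i).1 := by rw [← h6]; group
      rw [h7] at h3
      have h8 : (((e i).2.out : center L) : L) = ((e j).2.out : center L) * n := mul_left_cancel h3
      have h9 : (e i).2 = (e j).2 := by
        rw [← Quotient.out_eq' (e i).2, ← Quotient.out_eq' (e j).2]
        apply Eq.symm
        refine QuotientGroup.eq.2 ?_
        change ((e j).2.out)⁻¹ * (e i).2.out ∈ N'
        rw [mem_subgroupOf]
        have : (((((e j).2.out)⁻¹ * (e i).2.out : center L)) : L) = n := by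
          change (((e j).2.out : center L) : L)⁻¹ * ((e i).2.out : center L) = n
          rw [h8]; group
        rw [this]; exact hn
      exact e.injective (Prod.ext e1 h9))
  have h2 := Sit.kbound hS x hx
  rw [Sit.card_centralizer hS hπ x hx] at h2
  have h3 : m = k * Nat.card (center L ⧸ N') := by
    change Nat.card (Fin k × (center L ⧸ N')) = _
    rw [Nat.card_prod, Nat.card_fin]
  have h4 : Nat.card (center L) = Nat.card (center L ⧸ N') * Nat.card N := by
    rw [← hN'c]; exact card_eq_card_quotient_mul_card_subgroup N'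
  have h5 : 0 < Nat.card (center L) := Nat.card_pos
  have h6 : m * Nat.card N ≤ Nat.card (center L) * Nat.card (centralizer ({π x} : Set S)) :=
    (Nat.mul_le_mul_right _ h1).trans h2
  rw [h3, mul_assoc, ← h4, mul_comm k] at h6
  have h7 := Nat.le_of_mul_le_mul_left h6 h5
  omega

end

end Cfsg.Agent.H309.U43
end

-- part: H309/U43/Good
section
/-!
# S4979, row `U₄(3)`: very good elements

* `good_two` : a 2-element `g` of a cover of `PSU₄(3)`, over an element of `SU₄(3)` of nonzero trace: `⁅g, y⁆ ∈ Z → ⁅g, y⁆ = 1`;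
* `good_odd` : the same for elements of order prime to 6;
* `exists_four`, `exists_eight` : elements of orders 4 and 8 of `PSU₄(3)` over elements of nonzero trace.
-/

set_option autoImplicit false
set_option linter.style.haveILetI false

namespace Cfsg.Agent.H309.U43

open Subgroup Matrix Cfsg Cfsg.Agent.H80.Fpf
open Cfsg.Agent.LieClassical.HermSiegel Cfsg.Agent.LieClassical.SUBasic Cfsg.Agent.ClassicalGeometry.PSUAutBasic

open scoped commutatorElement

variable {F : Type} [Field F] [Fintype F]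

theorem mat_suScalar {c : F} (h1 : c ^ 4 = 1) (h2 : c ^ (3 + 1) = 1) :
    mat (suScalar 3 c h1 h2 : SU 4 F 3) = Matrix.diagonal (fun _ => c) := rfl

/-- commutators of elements of nonzero trace -/
theorem eq_one_of_trace (hF : Fintype.card F = 3 ^ 2) {g y : SU 4 F 3} (htr : (mat g).trace ≠ 0)
    (h : ⁅g, y⁆ ∈ center (SU 4 F 3)) : ⁅g, y⁆ = 1 := by
  obtain ⟨c, hc, hc', hz⟩ := (mem_center_SU_iff hF (by norm_num) _).1 h
  have h1 : g = suScalar 3 c hc hc' * (y * g * y⁻¹) := by
    rw [← hz, commutatorElement_def]; group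
  have h2 : (mat g).trace = c * (mat g).trace := by
    have h3 : mat (y * g * y⁻¹) = mat y * mat g * mat y⁻¹ := by rw [mat_mul, mat_mul]
    have h4 : (mat y * mat g * mat y⁻¹).trace = (mat g).trace := by
      rw [Matrix.trace_mul_cycle, ← mat_mul, inv_mul_cancel, mat_one, one_mul]
    conv_lhs => rw [h1, mat_mul, mat_suScalar, h3]
    rw [← h4]
    have h5 : ∀ M : Matrix (Fin 4) (Fin 4) F, Matrix.diagonal (fun _ => c) * M = c • M := by
      intro M
      ext i j
      rw [Matrix.diagonal_mul, Matrix.smul_apply, smul_eq_mul]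
    rw [h5, Matrix.trace_smul, smul_eq_mul]
  have h3 : c = 1 := by
    have h4 : (c - 1) * (mat g).trace = 0 := by rw [sub_mul, one_mul, ← h2, sub_self]
    rcases mul_eq_zero.1 h4 with h5 | h5
    · exact sub_eq_zero.1 h5
    · exact absurd h5 htr
  subst h3
  rw [hz]
  apply mat_injective
  rw [mat_suScalar, mat_one]
  exact Matrix.diagonal_one

theorem trace_of_pr (hF : Fintype.card F = 3 ^ 2) {g g' : SU 4 F 3} (h : pr 4 F 3 g = pr 4 F 3 g')
    (htr : (mat g').trace ≠ 0) : (mat g).trace ≠ 0 := by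
  have h1 : g * g'⁻¹ ∈ center (SU 4 F 3) := by
    rw [← pr_eq_one_iff, map_mul, map_inv, h, mul_inv_cancel]
  obtain ⟨c, hc, hc', hz⟩ := (mem_center_SU_iff hF (by norm_num) _).1 h1
  have h2 : g = suScalar 3 c hc hc' * g' := by rw [← hz, inv_mul_cancel_right]
  have h5 : ∀ M : Matrix (Fin 4) (Fin 4) F, Matrix.diagonal (fun _ => c) * M = c • M := by
    intro M
    ext i j
    rw [Matrix.diagonal_mul, Matrix.smul_apply, smul_eq_mul]
  rw [h2, mat_mul, mat_suScalar, h5, Matrix.trace_smul, smul_eq_mul]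
  refine mul_ne_zero ?_ htr
  rintro rfl
  rw [zero_pow (by norm_num)] at hc
  exact zero_ne_one hc

theorem multDvd (hF : Fintype.card F = 3 ^ 2) : MultDvd (PSU 4 F 3) 36 := by
  have h := multDvd_of (Cfsg.Agent.S2090.result (F := F) (by rw [hF]; norm_num))
  have h1 : Nat.card (Multiplicative (ZMod 4 × ZMod 3 × ZMod 3)) = 36 := by
    rw [Nat.card_congr Multiplicative.toAdd, Nat.card_prod, Nat.card_prod, Nat.card_zmod, Nat.card_zmod]
  rwa [h1] at h

/-- powers of central commutators -/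
theorem comm_pow {G : Type*} [Group G] {g y : G} {n : ℕ} (hc : ⁅g, y⁆ ∈ center G) (hg : g ^ n = 1) : ⁅g, y⁆ ^ n = 1 := by
  have h1 : y * g⁻¹ * y⁻¹ = g⁻¹ * ⁅g, y⁆ := by rw [commutatorElement_def]; group
  have h2 : (y * g⁻¹ * y⁻¹) ^ n = 1 := by
    rw [conj_pow, inv_pow, hg, inv_one, mul_one, mul_inv_cancel]
  have h3 : Commute g⁻¹ ⁅g, y⁆ := mem_center_iff.1 hc g⁻¹
  rw [h1, h3.mul_pow, inv_pow, hg, inv_one, one_mul] at h2
  exact h2

theorem eq_one_of_coprime {G : Type*} [Group G] {z : G} {a b : ℕ} (h : Nat.Coprime a b) (ha : z ^ a = 1) (hb : z ^ b = 1) :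
    z = 1 := by
  have h1 := orderOf_dvd_of_pow_eq_one ha
  have h2 := orderOf_dvd_of_pow_eq_one hb
  have h3 := Nat.dvd_gcd h1 h2
  rw [h] at h3
  exact orderOf_eq_one_iff.1 (Nat.dvd_one.1 h3)

section
variable {L : Type} [Group L] [Finite L] {π : L →* PSU 4 F 3}

theorem good_odd (hF : Fintype.card F = 3 ^ 2) (hπ : IsCover π) {g : L} {n : ℕ} (hn : Nat.Coprime n 36) (hg : g ^ n = 1)
    (y : L) (hy : ⁅g, y⁆ ∈ π.ker) : ⁅g, y⁆ = 1 := by
  refine eq_one_of_coprime hn (comm_pow (hπ.central hy) hg) ?_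
  obtain ⟨c, hc⟩ := multDvd hF L π hπ
  have h1 : (⟨⁅g, y⁆, hy⟩ : π.ker) ^ Nat.card π.ker = 1 := pow_card_eq_one'
  have h2 := congrArg Subtype.val h1
  rw [hc, pow_mul]
  change ⁅g, y⁆ ^ Nat.card π.ker = 1 at h2
  rw [h2, one_pow]

theorem good_two (hF : Fintype.card F = 3 ^ 2) (hπ : IsCover π) {g : L} {k : ℕ} (hg : g ^ 2 ^ k = 1) {g' : SU 4 F 3}
    (hg' : pr 4 F 3 g' = π g) (htr : (mat g').trace ≠ 0) (y : L) (hy : ⁅g, y⁆ ∈ π.ker) : ⁅g, y⁆ = 1 := by
  haveI : Finite (PSU 4 F 3) := Quotient.finite _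
  have hυ := Cfsg.Agent.H700.FpfPsu.isCover_pr (F := F) (n := 4) (q := 3) hF (by norm_num) (by norm_num)
  obtain ⟨E, _, _, e, q₁, q₂, he, hq₁, hq₂, h1, h2⟩ := exists_common hυ hπ
  -- a lift of 2-power order
  obtain ⟨x, a, hxa, hxg⟩ : ∃ (x : E) (a : ℕ), x ^ 2 ^ a = 1 ∧ q₂ x = g := by
    obtain ⟨x0, hx0⟩ := hq₂ g
    obtain ⟨a, m, hm, hN⟩ := Nat.exists_eq_two_pow_mul_odd (orderOf_pos x0).ne'
    have hco : Nat.Coprime m (2 ^ (k + 1)) := Nat.Coprime.pow_right _ (Nat.coprime_two_right.2 hm)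
    obtain ⟨t, -, ht⟩ := Nat.exists_mul_mod_eq_one_of_coprime hco (Nat.one_lt_two_pow (by omega))
    refine ⟨x0 ^ (m * t), a, ?_, ?_⟩
    · rw [← pow_mul, show m * t * 2 ^ a = 2 ^ a * m * t by ring, ← hN, pow_mul, pow_orderOf_eq_one, one_pow]
    · have hg2 : g ^ 2 ^ (k + 1) = 1 := by rw [pow_succ, pow_mul, hg, one_pow]
      rw [map_pow, hx0, pow_eq_pow_mod (m * t) hg2, ht, pow_one]
  obtain ⟨w, hw⟩ := hq₂ y
  have hζ : ⁅x, w⁆ ∈ e.ker := by
    rw [MonoidHom.mem_ker, ← h2, map_commutatorElement, hxg, hw]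
    exact hy
  have hζ2 := comm_pow (he.central hζ) hxa
  have hq : q₁ ⁅x, w⁆ = 1 := by
    rw [map_commutatorElement]
    apply eq_one_of_trace hF
    · apply trace_of_pr hF _ htr
      rw [hg', h1, ← h2, hxg]
    · rw [← map_commutatorElement, ← pr_eq_one_iff, h1]
      exact hζ
  have hcard := card_ker_comp hυ he q₁ hq₁
  have h4 : Nat.card (pr 4 F 3).ker = 4 := by
    have : (pr 4 F 3).ker = center (SU 4 F 3) := QuotientGroup.ker_mk' _
    rw [this, Cfsg.Agent.S0279.result hF 4 (by norm_num)]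
    rfl
  rw [h4] at hcard
  have h9 : Nat.card q₁.ker ∣ 9 := by
    have h5 := multDvd hF E e he
    rw [hcard] at h5
    exact Nat.dvd_of_mul_dvd_mul_right (by norm_num : 0 < 4) h5
  have hζ9 : ⁅x, w⁆ ^ 9 = 1 := by
    obtain ⟨c, hc⟩ := h9
    have h5 : (⟨⁅x, w⁆, hq⟩ : q₁.ker) ^ Nat.card q₁.ker = 1 := pow_card_eq_one'
    have h6 := congrArg Subtype.val h5
    change ⁅x, w⁆ ^ Nat.card q₁.ker = 1 at h6
    rw [hc, pow_mul, h6, one_pow]
  have hζ1 : ⁅x, w⁆ = 1 := eq_one_of_coprime (Nat.Coprime.pow_left _ (by norm_num)) hζ2 hζ9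
  rw [← hxg, ← hw, ← map_commutatorElement, hζ1, map_one]

end

/-! ### The elements -/

theorem two_ne (hF : Fintype.card F = 3 ^ 2) : (2 : F) ≠ 0 :=
  Cfsg.Agent.H844.USeven.two_ne (by rw [hF]; norm_num)

theorem exists_i (hF : Fintype.card F = 3 ^ 2) : ∃ i : F, i * i = -1 := by
  have h : IsSquare (-1 : F) := by
    rw [FiniteField.isSquare_neg_one_iff, hF]; norm_num
  obtain ⟨i, hi⟩ := h
  exact ⟨i, hi.symm⟩

theorem mat_pow {n q : ℕ} (g : SU n F q) (k : ℕ) : mat (g ^ k) = mat g ^ k := by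
  induction k with
  | zero => rw [pow_zero, pow_zero, mat_one]
  | succ k ih => rw [pow_succ, pow_succ, mat_mul, ih]

theorem ne_center {n q : ℕ} (hF : Fintype.card F = q ^ 2) (hn : 3 ≤ n) {g : SU n F q} {i j : Fin n}
    (h : mat g i i ≠ mat g j j) : pr n F q g ≠ 1 := by
  intro h1
  rw [pr_eq_one_iff] at h1
  obtain ⟨c, hc, hc', hz⟩ := (mem_center_SU_iff hF hn _).1 h1
  apply h
  rw [hz]
  change Matrix.diagonal (fun _ => c) i i = Matrix.diagonal (fun _ => c) j j
  rw [Matrix.diagonal_apply_eq, Matrix.diagonal_apply_eq]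

theorem exists_four (hF : Fintype.card F = 3 ^ 2) :
    ∃ g : SU 4 F 3, (mat g).trace ≠ 0 ∧ orderOf (pr 4 F 3 g) = 4 := by
  obtain ⟨i, hi⟩ := exists_i hF
  have h2 := two_ne hF
  have hi4 : i ^ (3 + 1) = 1 := by linear_combination (i ^ 2 - 1) * hi
  let M : Matrix (Fin 4) (Fin 4) F := Matrix.diagonal ![1, 1, i, -i]
  let g : SU 4 F 3 := suDiag 3 ![1, 1, i, -i] (by
      rw [Fin.prod_univ_four]
      simp only [Matrix.cons_val]
      linear_combination -hi) (by
      intro j
      fin_cases j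
      · simp
      · simp
      · exact hi4
      · change (-i) ^ (3 + 1) = 1
        linear_combination hi4)
  have hg : mat g = Matrix.diagonal ![1, 1, i, -i] := rfl
  refine ⟨g, ?_, ?_⟩
  · rw [hg, Matrix.trace_diagonal, Fin.sum_univ_four]
    simp only [Matrix.cons_val]
    intro h
    apply h2
    linear_combination h
  · have hm : ∀ k : ℕ, mat (g ^ k) = Matrix.diagonal (fun j => (![1, 1, i, -i] : Fin 4 → F) j ^ k) := by
      intro k
      rw [mat_pow, hg, Matrix.diagonal_pow]; rfl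
    have h4 : pr 4 F 3 g ^ 2 ^ (1 + 1) = 1 := by
      rw [← map_pow]
      have : g ^ 2 ^ (1 + 1) = 1 := by
        apply mat_injective
        rw [hm, mat_one, ← Matrix.diagonal_one]
        congr 1
        funext j
        fin_cases j
        · simp
        · simp
        · exact hi4
        · change (-i) ^ (3 + 1) = 1
          linear_combination hi4
      rw [this, map_one]
    have h3 : ¬ pr 4 F 3 g ^ 2 ^ 1 = 1 := by
      rw [← map_pow]
      refine ne_center hF (by norm_num) (i := 0) (j := 2) ?_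
      rw [hm, Matrix.diagonal_apply_eq, Matrix.diagonal_apply_eq]
      change (1 : F) ^ 2 ^ 1 ≠ i ^ 2 ^ 1
      intro h
      apply h2
      linear_combination h + hi
    exact orderOf_eq_prime_pow h3 h4

/-- the matrix of the element of order 8 -/
def M8 (i : F) : Matrix (Fin 4) (Fin 4) F := !![0, 1, 0, 0; i, 0, 0, 0; 0, 0, 1, 0; 0, 0, 0, i]

theorem det_M8 {i : F} (hi : i * i = -1) : (M8 i).det = 1 := by
  simp only [M8, Matrix.det_succ_row_zero, Fin.sum_univ_succ, Fin.succAbove, _root_.Nat.succ_eq_add_one, _root_.Nat.reduceAdd, _root_.Fin.isValue, _root_.Matrix.of_apply, _root_.Matrix.cons_val', _root_.Matrix.cons_val_fin_one, _root_.Matrix.cons_val_zero, _root_.Matrix.submatrix_apply, _root_.Fin.succ_zero_eq_one, _root_.Matrix.cons_val_one, _root_.Matrix.submatrix_submatrix, _root_.Function.comp_apply, _root_.Fin.succ_one_eq_two, _root_.Matrix.cons_val, _root_.Matrix.det_unique, _root_.Fin.default_eq_zero, _root_.Fin.reduceSucc, _root_.Fin.castSucc_zero, _root_.Fin.coe_ofNat_eq_mod,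 _root_.Nat.zero_mod, _root_.pow_zero, _root_.one_mul, _root_.lt_self_iff_false, ↓ _root_.reduceIte, _root_.Fin.castSucc_one, _root_.Finset.univ_unique, _root_.Fin.val_succ, _root_.Fin.val_eq_zero, _root_.zero_add, _root_.pow_one, _root_.Fin.castSucc_succ, _root_.neg_mul, _root_.Fin.succ_pos, _root_.Finset.sum_neg_distrib, _root_.Finset.sum_singleton, _root_.not_lt_zero, _root_.Fin.reduceCastSucc, _root_.even_two, _root_.Even.neg_pow, _root_.one_pow, _root_.Fin.reduceLT, _root_.MulZeroClass.mul_zero, _root_.neg_zero, _root_.add_zero, _root_.MulZeroClass.zero_mul, _root_.Matrix.cons_val_succ, _root_.mul_one, _root_.Fin.lt_one_iff, _root_.Fin.reduceEq, _root_.Finset.sum_const_zero]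
  linear_combination -hi

theorem herm_M8 {i : F} (hi4 : i ^ 4 = 1) (u v : Fin 4 → F) :
    hermForm 4 F 3 (M8 i *ᵥ u) (M8 i *ᵥ v) = hermForm 4 F 3 u v := by
  have e : ∀ w : Fin 4 → F, M8 i *ᵥ w = ![w 1, i * w 0, w 2, i * w 3] := by
    intro w
    funext j
    (revert j; simp only [M8, Matrix.mulVec, dotProduct, Fin.sum_univ_four, _root_.Fin.forall_fin_succ, _root_.Matrix.of_apply, _root_.Matrix.cons_val', _root_.Matrix.cons_val_fin_one, Fin.isValue, _root_.Matrix.cons_val_zero, _root_.Matrix.cons_val_one, _root_.Matrix.cons_val, _root_.Nat.succ_eq_add_one, Nat.reduceAdd, _root_.MulZeroClass.zero_mul, _root_.one_mul, _root_.zero_add, _root_.add_zero, _root_.Matrix.cons_val_succ, _root_.implies_true, _root_.and_self])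
  rw [e, e]
  simp only [hermForm, Fin.sum_univ_four, Matrix.cons_val]
  linear_combination (u 0 * v 0 ^ 3 + u 3 * v 3 ^ 3) * hi4

theorem exists_eight (hF : Fintype.card F = 3 ^ 2) :
    ∃ g : SU 4 F 3, (mat g).trace ≠ 0 ∧ orderOf (pr 4 F 3 g) = 8 := by
  obtain ⟨i, hi⟩ := exists_i hF
  have h2 := two_ne hF
  have hi4 : i ^ 4 = 1 := by linear_combination (i ^ 2 - 1) * hi
  let g : SU 4 F 3 := ⟨⟨M8 i, det_M8 hi⟩, (mem_SU_iff _).2 (herm_M8 hi4)⟩
  have hg : mat g = M8 i := rfl
  have e2 : M8 i * M8 i = !![i, 0, 0, 0; 0, i, 0, 0; 0, 0, 1, 0; 0, 0, 0, -1] := by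
    ext a b
    (revert a b; simp only [M8, Matrix.mul_apply, Fin.sum_univ_four, hi, _root_.Fin.forall_fin_succ, _root_.Matrix.of_apply, _root_.Matrix.cons_val', _root_.Matrix.cons_val_fin_one, Fin.isValue, _root_.Matrix.cons_val_zero, _root_.Matrix.cons_val_one, _root_.Matrix.cons_val, _root_.MulZeroClass.mul_zero, _root_.zero_add, _root_.add_zero, _root_.Matrix.cons_val_succ, _root_.mul_one, _root_.forall_const, _root_.true_and, _root_.one_mul, _root_.MulZeroClass.zero_mul, _root_.and_self, _root_.implies_true])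
  have e4 : (!![i, 0, 0, 0; 0, i, 0, 0; 0, 0, 1, 0; 0, 0, 0, -1] : Matrix (Fin 4) (Fin 4) F) *
      !![i, 0, 0, 0; 0, i, 0, 0; 0, 0, 1, 0; 0, 0, 0, -1] = Matrix.diagonal ![-1, -1, 1, 1] := by
    ext a b
    (revert a b; simp only [Matrix.mul_apply, Fin.sum_univ_four, hi, _root_.Fin.forall_fin_succ, _root_.Matrix.of_apply, _root_.Matrix.cons_val', _root_.Matrix.cons_val_fin_one, Fin.isValue, _root_.Matrix.cons_val_zero, _root_.Matrix.cons_val_one, _root_.Matrix.cons_val, _root_.Nat.succ_eq_add_one, Nat.reduceAdd, _root_.MulZeroClass.mul_zero, _root_.add_zero, _root_.Matrix.cons_val_succ, _root_.zero_add, _root_.Fin.succ_zero_eq_one, _root_.mul_one, _root_.Fin.succ_one_eq_two, _root_.mul_neg, Fin.reduceSucc, _root_.IsEmpty.forall_iff, _root_.and_true, _root_.Matrix.diagonal_apply_eq, _root_.MulZeroClass.zero_mul, _root_.ne_eq, _root_.zero_ne_one, _root_.not_false_eq_true, _root_.Matrix.diagonal_apply_ne, Fin.reduceEq, _root_.neg_zero, _root_.and_self, _root_.Fin.succ_ne_zero,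 _root_.mul_eq_zero, _root_.true_or, _root_.neg_neg, _root_.true_and])
  have e4' : M8 i ^ 4 = Matrix.diagonal ![-1, -1, 1, 1] := by
    have h : M8 i ^ 4 = (M8 i * M8 i) * (M8 i * M8 i) := by
      rw [pow_succ, pow_succ, pow_two, mul_assoc]
    rw [h, e2, e4]
  refine ⟨g, ?_, ?_⟩
  · rw [hg]
    have : (M8 i).trace = 1 + i := by
      simp [M8, Matrix.trace, Fin.sum_univ_four]
    rw [this]
    intro h
    apply h2
    linear_combination (1 - i) * h + hi
  · have h8 : pr 4 F 3 g ^ 2 ^ (2 + 1) = 1 := by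
      rw [← map_pow]
      have : g ^ 2 ^ (2 + 1) = 1 := by
        apply mat_injective
        rw [mat_pow, hg, show (2 : ℕ) ^ (2 + 1) = 4 * 2 from rfl, pow_mul, e4', Matrix.diagonal_pow, mat_one,
          ← Matrix.diagonal_one]
        congr 1
        funext j
        (revert j; simp only [_root_.Fin.forall_fin_succ, _root_.Nat.succ_eq_add_one, Nat.reduceAdd, _root_.Pi.pow_apply, _root_.sq_eq_one_iff, Fin.isValue, _root_.Matrix.cons_val_zero, _root_.or_true, _root_.Matrix.cons_val_succ, _root_.true_or, _root_.Matrix.cons_val_fin_one, _root_.implies_true, _root_.and_self])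
      rw [this, map_one]
    have h3 : ¬ pr 4 F 3 g ^ 2 ^ 2 = 1 := by
      rw [← map_pow]
      refine ne_center hF (by norm_num) (i := 0) (j := 2) ?_
      rw [mat_pow, hg, show (2 : ℕ) ^ 2 = 4 from rfl, e4', Matrix.diagonal_apply_eq, Matrix.diagonal_apply_eq]
      change (-1 : F) ≠ 1
      intro h
      apply h2
      linear_combination -h
    exact orderOf_eq_prime_pow h3 h8

end Cfsg.Agent.H309.U43
end

-- part: H309/U43/Five
section
/-!
# S4979, row `U₄(3)`: the prime 5
-/

set_option autoImplicit false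
set_option linter.style.haveILetI false

namespace Cfsg.Agent.H309.U43

open Subgroup Matrix Cfsg Cfsg.Agent.H80.Fpf Cfsg.Agent.H152.QA
open Cfsg.Agent.LieClassical.HermSiegel Cfsg.Agent.LieClassical.SUBasic Cfsg.Agent.ClassicalGeometry.PSUAutBasic

open scoped commutatorElement

variable {F : Type} [Field F] [Fintype F]

/-- an element of order 7 is not conjugate to its inverse -/
theorem not_conj_inv (hF : Fintype.card F = 3 ^ 2) {s : PSU 4 F 3} (hs : orderOf s = 7) : ¬ IsConj s s⁻¹ := by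
  have h9 : Fintype.card F = 9 := by rw [hF]; norm_num
  intro h
  obtain ⟨y, hy⟩ := isConj_iff.1 h
  have hs7 : s ^ 7 = 1 := by rw [← hs, pow_orderOf_eq_one]
  have hs1 : s ≠ 1 := by
    rintro rfl
    rw [orderOf_one] at hs
    omega
  have hcard : Nat.card (zpowers s) = 7 := by rw [Nat.card_zpowers, hs]
  have h2 : y ^ 2 ∈ zpowers s := by
    rw [← Cfsg.Agent.H844.USeven.centralizer_eq h9 (zpowers s) hcard, mem_centralizer_iff]
    rintro _ ⟨k, rfl⟩
    have h3 : y * (y * s * y⁻¹) * y⁻¹ = s := by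
      rw [hy]
      calc y * s⁻¹ * y⁻¹ = (y * s * y⁻¹)⁻¹ := by group
        _ = s := by rw [hy, inv_inv]
    have h4 : Commute s (y ^ 2) := by
      change s * y ^ 2 = y ^ 2 * s
      calc s * y ^ 2 = (y * (y * s * y⁻¹) * y⁻¹) * y ^ 2 := by rw [h3]
        _ = y ^ 2 * s := by rw [pow_two]; group
    exact (h4.zpow_left k).eq
  have h3 : (y ^ 2) ^ 7 = 1 := by
    have h4 : (⟨y ^ 2, h2⟩ : zpowers s) ^ 7 = 1 := by rw [← hcard]; exact pow_card_eq_one'
    exact congrArg Subtype.val h4
  have hodd : ∀ k : ℕ, y ^ (2 * k + 1) * s * (y ^ (2 * k + 1))⁻¹ = s⁻¹ := by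
    intro k
    induction k with
    | zero => simpa only [_root_.MulZeroClass.mul_zero, _root_.zero_add, _root_.pow_one] using hy
    | succ k ih =>
      have e : y ^ (2 * (k + 1) + 1) * s * (y ^ (2 * (k + 1) + 1))⁻¹ =
          y * (y * (y ^ (2 * k + 1) * s * (y ^ (2 * k + 1))⁻¹) * y⁻¹) * y⁻¹ := by
        rw [show 2 * (k + 1) + 1 = 2 + (2 * k + 1) by ring, pow_add, pow_two]; group
      rw [e, ih]
      have h5 : y * s⁻¹ * y⁻¹ = s := by
        calc y * s⁻¹ * y⁻¹ = (y * s * y⁻¹)⁻¹ := by group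
          _ = s := by rw [hy, inv_inv]
      rw [h5, hy]
  exact Cfsg.Agent.H236.USeven.no_inv h9 hs7 hs1 (t := y ^ 7) (by rw [← pow_mul, mul_comm, pow_mul, h3]) (hodd 3)

/-- **The prime 5.** -/
theorem no_five (hF : Fintype.card F = 3 ^ 2) {q : ℕ} {L V : Type} [Group L] [Finite L] [AddCommGroup V] [Finite V]
    [DistribMulAction L V] {π : L →* PSU 4 F 3} {N : Subgroup L} {φ : N →* ℂˣ} (hπ : IsCover π)
    (h : Sit (V := V) 5 q N φ) : False := by
  classical
  haveI : IsSimpleGroup (PSU 4 F 3) := Cfsg.Agent.S0283.result hF 4 (by norm_num) (by norm_num)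
  haveI : Finite (PSU 4 F 3) := Quotient.finite _
  haveI : Fact (Nat.Prime 5) := ⟨Nat.prime_five⟩
  haveI : Fact (Nat.Prime 7) := ⟨by norm_num⟩
  have hcard : Nat.card (PSU 4 F 3) = 3265920 := Cfsg.Agent.H844.USeven.card_psu (by rw [hF]; norm_num)
  -- elements of order 5 and 7
  obtain ⟨R, hR5, hRc⟩ := Cfsg.Agent.H251.Small.selfcent5_u43 hF
  obtain ⟨r, hr⟩ := exists_prime_orderOf_dvd_card' (G := R) 5 (by rw [hR5])
  have hr' : orderOf (r : PSU 4 F 3) = 5 := by rw [orderOf_coe]; exact hr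
  have hrc : Nat.card (centralizer ({(r : PSU 4 F 3)} : Set (PSU 4 F 3))) = 5 := by
    have h1 : centralizer ({(r : PSU 4 F 3)} : Set (PSU 4 F 3)) = R := by
      refine Eq.trans ?_ hRc
      have h2 : zpowers (r : PSU 4 F 3) = R := by
        apply Subgroup.eq_of_le_of_card_ge
        · rw [zpowers_le]; exact r.2
        · rw [Nat.card_zpowers, hr', hR5]
      ext x
      rw [mem_centralizer_singleton_iff, mem_centralizer_iff]
      constructor
      · intro hx g hg
        have hg' : g ∈ zpowers (r : PSU 4 F 3) := by rw [h2]; exact hg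
        obtain ⟨k, rfl⟩ := hg'
        exact ((show Commute (r : PSU 4 F 3) x from hx.symm).zpow_left k).eq
      · intro hx
        exact (hx _ r.2).symm
    rw [h1, hR5]
  obtain ⟨s, hs⟩ := exists_prime_orderOf_dvd_card' (G := PSU 4 F 3) 7 (by rw [hcard]; norm_num)
  obtain ⟨g4, ht4, ho4⟩ := exists_four hF
  obtain ⟨g8, ht8, ho8⟩ := exists_eight hF
  -- lifts
  have hker : ∀ z : L, π z = 1 → z ^ 36 = 1 := by
    intro z hz
    obtain ⟨c, hc⟩ := multDvd hF L π hπ
    have h1 : (⟨z, hz⟩ : π.ker) ^ Nat.card π.ker = 1 := pow_card_eq_one'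
    have h2 := congrArg Subtype.val h1
    rw [hc, pow_mul]
    change z ^ Nat.card π.ker = 1 at h2
    rw [h2, one_pow]
  have liftodd : ∀ (g : PSU 4 F 3) (n : ℕ), g ^ n = 1 → 36 % n = 1 → ∃ x : L, π x = g ∧ x ^ n = 1 := by
    intro g n hg hn
    obtain ⟨x0, hx0⟩ := hπ.surj g
    refine ⟨x0 ^ 36, ?_, ?_⟩
    · rw [map_pow, hx0, pow_eq_pow_mod 36 hg, hn, pow_one]
    · rw [← pow_mul, mul_comm, pow_mul]
      exact hker _ (by rw [map_pow, hx0, hg])
  have lifttwo : ∀ (g : PSU 4 F 3), g ^ 8 = 1 → ∃ x : L, π x = g ∧ x ^ 2 ^ 5 = 1 := by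
    intro g hg
    obtain ⟨x0, hx0⟩ := hπ.surj g
    refine ⟨x0 ^ 9, ?_, ?_⟩
    · rw [map_pow, hx0, show 9 = 8 + 1 from rfl, pow_succ, hg, one_mul]
    · rw [← pow_mul, show 9 * 2 ^ 5 = 8 * 36 from rfl, pow_mul]
      exact hker _ (by rw [map_pow, hx0, hg])
  have hr5 : (r : PSU 4 F 3) ^ 5 = 1 := by rw [← hr', pow_orderOf_eq_one]
  have hs7 : s ^ 7 = 1 := by rw [← hs, pow_orderOf_eq_one]
  obtain ⟨x5, hx5, hx5'⟩ := liftodd r 5 hr5 rfl
  obtain ⟨x7, hx7, hx7'⟩ := liftodd s 7 hs7 rfl
  obtain ⟨x4, hx4, hx4'⟩ := lifttwo (pr 4 F 3 g4) (orderOf_dvd_iff_pow_eq_one.1 (by rw [ho4]; norm_num))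
  obtain ⟨x8, hx8, hx8'⟩ := lifttwo (pr 4 F 3 g8) (orderOf_dvd_iff_pow_eq_one.1 (by rw [ho8]))
  let hh : Fin 6 → L := ![1, x5, x7, x7⁻¹, x4, x8]
  have hord : ∀ i, orderOf (π (hh i)) = (![1, 5, 7, 7, 4, 8] : Fin 6 → ℕ) i := by
    intro i
    fin_cases i
    · change orderOf (π 1) = 1
      rw [map_one, orderOf_one]
    · change orderOf (π x5) = 5
      rw [hx5, hr']
    · change orderOf (π x7) = 7
      rw [hx7, hs]
    · change orderOf (π x7⁻¹) = 7
      rw [map_inv, orderOf_inv, hx7, hs]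
    · change orderOf (π x4) = 4
      rw [hx4, ho4]
    · change orderOf (π x8) = 8
      rw [hx8, ho8]
  refine Cfsg.Agent.H309.U43.no_sit_of_good h hπ hh ?_ ?_ x5 ⟨1, ?_⟩ ?_
  · intro i y hy
    fin_cases i
    · change ⁅(1 : L), y⁆ = 1
      exact commutatorElement_one_left y
    · exact good_odd hF hπ (n := 5) (by norm_num) hx5' y hy
    · exact good_odd hF hπ (n := 7) (by norm_num) hx7' y hy
    · exact good_odd hF hπ (n := 7) (by norm_num) (g := x7⁻¹) (by rw [inv_pow, hx7', inv_one]) y hy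
    · exact good_two hF hπ hx4' hx4.symm ht4 y hy
    · exact good_two hF hπ hx8' hx8.symm ht8 y hy
  · intro i j hij
    have h1 : orderOf (π (hh i)) = orderOf (π (hh j)) := by
      obtain ⟨c, hc⟩ := isConj_iff.1 hij
      rw [← hc]
      exact (orderOf_injective (MulAut.conj c).toMonoidHom (MulAut.conj c).injective _).symm
    rw [hord, hord] at h1
    have h2 : ¬ (i = 2 ∧ j = 3) := by
      rintro ⟨rfl, rfl⟩
      apply not_conj_inv hF hs
      change IsConj (π x7) (π x7⁻¹) at hij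
      rwa [map_inv, hx7] at hij
    have h3 : ¬ (i = 3 ∧ j = 2) := by
      rintro ⟨rfl, rfl⟩
      apply not_conj_inv hF hs
      change IsConj (π x7⁻¹) (π x7) at hij
      rw [map_inv, hx7] at hij
      exact hij.symm
    revert h1 h2 h3
    clear hij
    revert i j
    decide
  · rw [pow_one]
    exact orderOf_eq_prime hx5' (by rintro rfl; rw [map_one] at hx5; rw [← hx5, orderOf_one] at hr'; omega)
  · rw [hx5, hrc]; norm_num

end Cfsg.Agent.H309.U43
end

private theorem dce_94fabef56333 : _root_.True := by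
  try have : _root_.True := by simp only [_root_.Cfsg.Agent.H309.U43.M8.eq_1]
  exact _root_.True.intro
end
end
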